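import Mathlib
import Groth.Agent.Lib.Lead.CohLES.Basic
import Groth.Agent.Lib.Lead.CohLES.DualLin
import Groth.Agent.Lib.Lead.QC.SerreSupp
import Groth.Agent.Lib.Lead.FF.IdealMul

/-!
# Right exactness of the top cohomology and a global Nakayama lemma

Part I of the relative theory of curves with `H¹(O) = 0` (fibres of dimension `≤ 1` over a
Noetherian affine base).
-/

set_option autoImplicit false
set_option linter.style.haveILetI false
universe u
open CategoryTheory CategoryTheory.Limits AlgebraicGeometry TopologicalSpace Opposite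

namespace Groth.Agent.H5.RelC

open Groth.Agent.LD Groth.Agent.LD.QC Groth.Agent.LD.CL

section nak

variable {A : Type*} [CommRing A] {M : Type*} [AddCommGroup M] [Module A M]

/-- **global Nakayama**: a finite module `M` with `M = 𝔪 M` for every maximal ideal `𝔪` is zero. -/
theorem subsingleton_of_forall_maximal_le_smul [Module.Finite A M]
    (h : ∀ m : Ideal A, m.IsMaximal → (⊤ : Submodule A M) ≤ m • (⊤ : Submodule A M)) :
    Subsingleton M := by
  have hann : Module.annihilator A M = ⊤ := by
    by_contra hne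
    obtain ⟨m, hm, hle⟩ := Ideal.exists_le_maximal _ hne
    obtain ⟨r, hr, hr0⟩ := Submodule.exists_sub_one_mem_and_smul_eq_zero_of_fg_of_le_smul m
      (⊤ : Submodule A M) Module.Finite.fg_top (h m hm)
    have hrann : r ∈ Module.annihilator A M := by
      rw [Module.mem_annihilator]
      intro x
      exact hr0 x Submodule.mem_top
    have hrm : r ∈ m := hle hrann
    have h1 : (1 : A) ∈ m := by
      have := m.sub_mem hrm hr
      simpa using this
    exact hm.ne_top ((Ideal.eq_top_iff_one m).mpr h1)
  have h1 : (1 : A) ∈ Module.annihilator A M := by rw [hann]; exact Submodule.mem_top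
  rw [Module.mem_annihilator] at h1
  exact ⟨fun x y => by rw [← one_smul A x, ← one_smul A y, h1 x, h1 y]⟩

end nak

section rex

variable {X : Scheme.{u}} (A : Type u) [CommRing A] [X.Over (Spec (CommRingCat.of A))]

/-- **right exactness of `H^p`** when `H^{p+1}` vanishes on coherent modules: for an epimorphism
`u : G ⟶ T` of coherent modules and `Φ : E ⟶ G` with `E ⟶ ker u` an epimorphism, `H^p(u)` is
surjective with kernel the image of `H^p(Φ)`. -/
theorem rightExact_HH [IsLocallyNoetherian X] (p : ℕ)
    (hp1 : ∀ K : X.Modules, Coh.IsCoh K → Subsingleton (Coh.HH X K (p + 1)))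
    {E G T : X.Modules} (hE : Coh.IsCoh E) (hG : Coh.IsCoh G) (hT : Coh.IsCoh T)
    (Φ : E ⟶ G) (u : G ⟶ T) [Epi u] (w : Φ ≫ u = 0) (hepi : Epi (kernel.lift u Φ w)) :
    Function.Surjective (HHmap A u p) ∧
      ∀ ξ : Coh.HH X G p, HHmap A u p ξ = 0 → ∃ ζ : Coh.HH X E p, HHmap A Φ p ζ = ξ := by
  have hI : Coh.IsCoh (kernel u) := isCoh_kernel u hG hT
  let S₂ : ShortComplex X.Modules := ShortComplex.mk (kernel.ι u) u (kernel.condition u)
  have hS₂ : S₂.ShortExact :=
    { exact := ShortComplex.exact_of_f_is_kernel _ (kernelIsKernel u)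
      mono_f := inferInstanceAs (Mono (kernel.ι u))
      epi_g := inferInstanceAs (Epi u) }
  set e := kernel.lift u Φ w with he
  have hK : Coh.IsCoh (kernel e) := isCoh_kernel e hE hI
  let S₁ : ShortComplex X.Modules := ShortComplex.mk (kernel.ι e) e (kernel.condition e)
  have hS₁ : S₁.ShortExact :=
    { exact := ShortComplex.exact_of_f_is_kernel _ (kernelIsKernel e)
      mono_f := inferInstanceAs (Mono (kernel.ι e))
      epi_g := hepi }
  haveI := hp1 _ hI
  haveI := hp1 _ hK
  constructor
  · intro x₃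
    exact exact₃ hS₂ A p x₃ (Subsingleton.elim _ _)
  · intro ξ hξ
    obtain ⟨η, hη⟩ := exact₂ hS₂ A p ξ hξ
    obtain ⟨ζ, hζ⟩ := exact₃ hS₁ A p η (Subsingleton.elim _ _)
    refine ⟨ζ, ?_⟩
    have h1 : e ≫ kernel.ι u = Φ := kernel.lift_ι _ _ _
    rw [← h1, HHmap_comp, LinearMap.comp_apply]
    change HHmap A (kernel.ι u) p (HHmap A S₁.g p ζ) = ξ
    rw [hζ]
    exact hη

end rex

section gens

attribute [local instance] CategoryTheory.Abelian.hasFiniteBiproducts

variable {X : Scheme.{u}} (A : Type u) [CommRing A] [X.Over (Spec (CommRingCat.of A))]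

/-- the map `⨁_j G ⟶ G` with components multiplication by the `a j`. -/
noncomputable def smulSum {ι : Type u} [Fintype ι] (a : ι → A) (G : X.Modules) :
    (⨁ fun _ : ι => G) ⟶ G :=
  biproduct.desc fun j => Formal.smulMod A G (a j)

/-- on cohomology, `smulSum` lands in `(a_j) H^p(G)`. -/
theorem HHmap_smulSum_mem {ι : Type u} [Fintype ι] (a : ι → A) (G : X.Modules) (p : ℕ)
    (ζ : Coh.HH X (⨁ fun _ : ι => G) p) :
    HHmap A (smulSum A a G) p ζ ∈
      Ideal.span (Set.range a) • (⊤ : Submodule A (Coh.HH X G p)) := by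
  classical
  have h1 : smulSum A a G = ∑ j, biproduct.π (fun _ : ι => G) j ≫ Formal.smulMod A G (a j) := by
    apply biproduct.hom_ext'
    intro i
    rw [smulSum, biproduct.ι_desc, Preadditive.comp_sum]
    rw [Finset.sum_eq_single i]
    · rw [biproduct.ι_π_self_assoc]
    · intro j _ hji
      rw [biproduct.ι_π_ne_assoc _ hji.symm, zero_comp]
    · intro hi
      exact absurd (Finset.mem_univ i) hi
  rw [h1, HHmap_sum, LinearMap.sum_apply]
  refine Submodule.sum_mem _ (fun j _ => ?_)
  rw [HHmap_comp, LinearMap.comp_apply, HHmap_smulMod]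
  exact Submodule.smul_mem_smul (Ideal.subset_span ⟨j, rfl⟩) Submodule.mem_top

/-- the cokernel of `smulSum` is killed by the `a j`. -/
theorem smulMod_cokernel_smulSum {ι : Type u} [Fintype ι] (a : ι → A) (G : X.Modules) (j : ι) :
    Formal.smulMod A (cokernel (smulSum A a G)) (a j) = 0 := by
  rw [← cancel_epi (cokernel.π (smulSum A a G)), comp_zero,
    Groth.Agent.LD.FF.comp_smulMod]
  have : Formal.smulMod A G (a j) = biproduct.ι (fun _ : ι => G) j ≫ smulSum A a G := by
    rw [smulSum, biproduct.ι_desc]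
  rw [this, Category.assoc, cokernel.condition, comp_zero]

end gens

end Groth.Agent.H5.RelC
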