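import Mathlib
import Groth.Agent.Lib.Helper5.RelC.A
import Groth.Agent.Lib.Helper2.GVSuppA
import Groth.Agent.Lib.Lead.SC.CohDim
import Groth.Agent.Lib.Lead.FPExt.Colim
import Groth.Agent.Lib.Lead.RS.FibreDim
import Groth.Agent.S0002

/-!
# Vanishing of `H^p`, `p ≥ 2`, for proper schemes over a Noetherian ring with fibres of
dimension `≤ 1`.
-/

set_option autoImplicit false
set_option linter.style.haveILetI false
universe u
open CategoryTheory CategoryTheory.Limits AlgebraicGeometry TopologicalSpace Opposite

namespace Groth.Agent.H5.RelC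

open Groth.Agent.LD Groth.Agent.LD.QC Groth.Agent.LD.CL

attribute [local instance] CategoryTheory.Abelian.hasFiniteBiproducts

section

variable (A : Type u) [CommRing A] (X : Scheme.{u}) [X.Over (Spec (CommRingCat.of A))]

/-- the cokernel of `smulSum` is killed by the ideal generated by the `a j`. -/
theorem killedBy_cokernel_smulSum {ι : Type u} [Fintype ι] (a : ι → A) (G : X.Modules) :
    Formal.KilledBy (Ideal.span (Set.range a)) (cokernel (smulSum A a G)) := by
  intro b hb
  induction hb using Submodule.span_induction with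
  | mem x hx =>
    obtain ⟨j, rfl⟩ := hx
    exact smulMod_cokernel_smulSum A a G j
  | zero => exact Groth.Agent.LD.FF.smulMod_zero _
  | add x y _ _ hx hy => rw [Groth.Agent.LD.FF.smulMod_add, hx, hy, add_zero]
  | smul c x _ hx =>
    rw [smul_eq_mul, CohIII.smulMod_mul, hx, zero_comp]

end

section main

variable (A : Type u) [CommRing A] [IsNoetherianRing A] (X : Scheme.{u})
  [X.Over (Spec (CommRingCat.of A))] [IsProper (X ↘ Spec (CommRingCat.of A))]

include A in
lemma isLocallyNoetherian : IsLocallyNoetherian X :=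
  LocallyOfFiniteType.isLocallyNoetherian (X ↘ Spec (CommRingCat.of A))

include A in
lemma compactSpace : CompactSpace X :=
  (quasiCompact_iff_compactSpace (X ↘ Spec (CommRingCat.of A))).mp inferInstance

include A in
lemma quasiSeparatedSpace : QuasiSeparatedSpace X :=
  quasiSeparatedSpace_of_quasiSeparated (X ↘ Spec (CommRingCat.of A))

/-- the dimension of the support of a coherent module killed by a maximal ideal is bounded by
the dimension of the fibre. -/
theorem dim_support_le_of_killedBy (d : ℕ)
    (hfib : ∀ y : ↥(Spec (CommRingCat.of A)),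
      topologicalKrullDim ↥((X ↘ Spec (CommRingCat.of A)).fiber y) ≤ d)
    (m : Ideal A) [hm : m.IsMaximal] (G : X.Modules) (hk : Formal.KilledBy m G) :
    topologicalKrullDim (CohB1.support G) ≤ d := by
  let y : ↥(Spec (CommRingCat.of A)) := ⟨m, hm.isPrime⟩
  have hsub : CohB1.support G ⊆ (X ↘ Spec (CommRingCat.of A)).base ⁻¹' {y} := by
    intro x hx
    have hle := SC.le_asIdeal_of_mem_support_of_killedBy m G hk x hx
    show (X ↘ Spec (CommRingCat.of A)).base x = y
    apply PrimeSpectrum.ext
    exact (hm.eq_of_le (PrimeSpectrum.isPrime _).ne_top hle).symm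
  let φ : ↥(CohB1.support G) → ↥((X ↘ Spec (CommRingCat.of A)).base ⁻¹' {y}) :=
    Set.inclusion hsub
  have hφ : Topology.IsInducing φ := (Topology.IsEmbedding.inclusion hsub).isInducing
  have h2 : Topology.IsInducing (((X ↘ Spec (CommRingCat.of A)).fiberHomeo y).symm ∘ φ) :=
    ((X ↘ Spec (CommRingCat.of A)).fiberHomeo y).symm.isInducing.comp hφ
  exact h2.topologicalKrullDim_le.trans (hfib y)

/-- **vanishing above the fibre dimension, step**: if `H^{p+1}` vanishes on coherent modules and
`p ≥ 2`, then `H^p` vanishes on coherent modules. -/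
theorem subsingleton_HH_step
    (hfib : ∀ y : ↥(Spec (CommRingCat.of A)),
      topologicalKrullDim ↥((X ↘ Spec (CommRingCat.of A)).fiber y) ≤ 1)
    (p : ℕ) (hp : 2 ≤ p)
    (hp1 : ∀ K : X.Modules, Coh.IsCoh K → Subsingleton (Coh.HH X K (p + 1)))
    (G : X.Modules) (hG : Coh.IsCoh G) : Subsingleton (Coh.HH X G p) := by
  haveI := isLocallyNoetherian A X
  haveI := compactSpace A X
  haveI : Module.Finite A (Coh.HH X G p) := Groth.Agent.S0002.result A X G hG p
  apply subsingleton_of_forall_maximal_le_smul (A := A)
  intro m hm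
  obtain ⟨s, hs⟩ := (isNoetherianRing_iff_ideal_fg A).mp inferInstance m
  let a : {x // x ∈ s} → A := Subtype.val
  have hspan : Ideal.span (Set.range a) = m := by
    rw [← hs]
    congr 1
    ext x
    simp [a]
  have hB := FPExt.qc_ft_biproduct (fun _ : {x // x ∈ s} => G) (fun _ => hG.1) (fun _ => hG.2)
  have hE : Coh.IsCoh (⨁ fun _ : {x // x ∈ s} => G) := ⟨hB.1, hB.2⟩
  have hT : Coh.IsCoh (cokernel (smulSum A a G)) := isCoh_cokernel _ hE hG
  have hk : Formal.KilledBy m (cokernel (smulSum A a G)) := by
    rw [← hspan]; exact killedBy_cokernel_smulSum A X a G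
  haveI : Subsingleton (Coh.HH X (cokernel (smulSum A a G)) p) :=
    Groth.Agent.H2.GVSupp.subsingleton_HH_of_support_dim_le 1 _ hT
      (dim_support_le_of_killedBy A X 1 hfib m _ hk) p (by omega) hp
  have hre := rightExact_HH A p hp1 hE hG hT (smulSum A a G) (cokernel.π (smulSum A a G))
    (cokernel.condition _) (inferInstanceAs (Epi (Abelian.factorThruImage (smulSum A a G))))
  intro ξ _
  obtain ⟨ζ, hζ⟩ := hre.2 ξ (Subsingleton.elim _ _)
  rw [← hζ, ← hspan]
  exact HHmap_smulSum_mem A a G p ζ

/-- **vanishing above the fibre dimension**: on a scheme proper over a Noetherian ring with fibres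
of dimension `≤ 1`, coherent modules have no cohomology in degrees `≥ 2`. -/
theorem subsingleton_HH_of_two_le
    (hfib : ∀ y : ↥(Spec (CommRingCat.of A)),
      topologicalKrullDim ↥((X ↘ Spec (CommRingCat.of A)).fiber y) ≤ 1)
    (G : X.Modules) (hG : Coh.IsCoh G) (p : ℕ) (hp : 2 ≤ p) : Subsingleton (Coh.HH X G p) := by
  haveI := compactSpace A X
  haveI := quasiSeparatedSpace A X
  obtain ⟨d, hd⟩ := SC.exists_cohDim_of_qcqs X
  have key : ∀ n p : ℕ, 2 ≤ p → d ≤ p + n → ∀ G : X.Modules, Coh.IsCoh G →
      Subsingleton (Coh.HH X G p) := by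
    intro n
    induction n with
    | zero => intro p _ hdp G hG; exact hd G hG.1 p (by omega)
    | succ n ih =>
      intro p hp hdp G hG
      exact subsingleton_HH_step A X hfib p hp
        (fun K hK => ih (p + 1) (by omega) (by omega) K hK) G hG
  exact key d p hp (by omega) G hG

end main

end Groth.Agent.H5.RelC
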