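import Mathlib
import Groth.Agent.Lib.Helper5.RelC.B
import Groth.Agent.Lib.Lead.FBC.AffineSec
import Groth.Agent.Lib.Lead.QC.ClosedUnit
import Groth.Agent.Lib.Lead.HF.Local

/-!
# The closed fibre `Z = X ×_A A/m` : sections, unit isomorphism for modules killed by `m`.
-/

set_option autoImplicit false
set_option linter.style.haveILetI false
universe u
open CategoryTheory CategoryTheory.Limits AlgebraicGeometry TopologicalSpace Opposite

namespace Groth.Agent.H5.RelC

open Groth.Agent.LD Groth.Agent.LD.QC Groth.Agent.LD.CL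

section K

variable {A : Type u} [CommRing A] (m : Ideal A)
variable {X Z : Scheme.{u}} (f : X ⟶ Spec (CommRingCat.of A))
  (f' : Z ⟶ Spec (CommRingCat.of (A ⧸ m))) (i : Z ⟶ X)
  (h : IsPullback i f' f (Spec.map (CommRingCat.ofHom (algebraMap A (A ⧸ m)))))

include h in
/-- **Lemma K**: over an affine open `U`, the kernel of `Γ(X, U) → Γ(Z, i⁻¹U)` is `m Γ(X, U)`. -/
theorem mem_map_of_app_eq_zero (U : X.Opens) (hU : IsAffineOpen U) (r : Γ(X, U))
    (hr : (i.app U).hom r = 0) : r ∈ Ideal.map (FBC.algAΓ f U) m := by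
  have hpo := FBC.isPushout_sections' f f' i h U hU
  set J : Ideal Γ(X, U) := Ideal.map (FBC.algAΓ f U) m with hJ
  let β : A ⧸ m →+* Γ(X, U) ⧸ J :=
    Ideal.Quotient.lift m ((Ideal.Quotient.mk J).comp (FBC.algAΓ f U)) (by
      intro a ha
      rw [RingHom.comp_apply, Ideal.Quotient.eq_zero_iff_mem]
      exact Ideal.mem_map_of_mem _ ha)
  have hw : CommRingCat.ofHom (algebraMap A (A ⧸ m)) ≫ CommRingCat.ofHom β =
      CommRingCat.ofHom (FBC.algAΓ f U) ≫ CommRingCat.ofHom (Ideal.Quotient.mk J) := by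
    ext a
    rfl
  have h2 := hpo.inr_desc (CommRingCat.ofHom β) (CommRingCat.ofHom (Ideal.Quotient.mk J)) hw
  have h3 := congr($h2 r)
  have h4 : i.appLE U (i ⁻¹ᵁ U) le_rfl = i.app U := (Scheme.Hom.app_eq_appLE i).symm
  have h5 : (i.appLE U (i ⁻¹ᵁ U) le_rfl).hom r = 0 := by rw [h4]; exact hr
  rw [CommRingCat.comp_apply] at h3
  change (hpo.desc _ _ hw).hom ((i.appLE U (i ⁻¹ᵁ U) le_rfl).hom r) = _ at h3
  rw [h5, map_zero] at h3
  exact Ideal.Quotient.eq_zero_iff_mem.mp h3.symm

end K

section U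

variable {A : Type u} [CommRing A] (m : Ideal A)
variable {X Z : Scheme.{u}} [X.Over (Spec (CommRingCat.of A))]
  (f' : Z ⟶ Spec (CommRingCat.of (A ⧸ m))) (i : Z ⟶ X)
  (h : IsPullback i f' (X ↘ Spec (CommRingCat.of A))
    (Spec.map (CommRingCat.ofHom (algebraMap A (A ⧸ m)))))

include h in
theorem isClosedImmersion_of_isPullback : IsClosedImmersion i := by
  haveI : IsClosedImmersion (Spec.map (CommRingCat.ofHom (algebraMap A (A ⧸ m)))) :=
    IsClosedImmersion.spec_of_surjective _ Ideal.Quotient.mk_surjective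
  exact MorphismProperty.of_isPullback (P := @IsClosedImmersion) h.flip inferInstance

include h in
/-- a quasi-coherent module killed by `m` is a direct image from the closed fibre. -/
theorem isIso_unit_of_killedBy [IsClosedImmersion i] (G : X.Modules) [G.IsQuasicoherent]
    (hk : Formal.KilledBy m G) :
    IsIso ((Scheme.Modules.pullbackPushforwardAdjunction i).unit.app G) := by
  rw [QC.isIso_unit_closedImmersion_iff]
  intro U a ha s
  rw [Scheme.Hom.ker_apply] at ha
  have h1 := mem_map_of_app_eq_zero m _ f' i h U.1 U.2 a ha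
  exact HF.smul_eq_zero_of_mem_map_pow m 1 (by rwa [pow_one]) U.1 a
    (by rw [pow_one]; exact h1) s

end U

end Groth.Agent.H5.RelC
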