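import Mathlib
import Groth.Agent.Lib.Helper5.RelC.C
import Groth.Agent.Lib.Lead.PS.ModPow
import Groth.Agent.Lib.Lead.CohLES.PushEquiv
import Groth.Agent.Lib.Helper5.GG.DefAmple

/-!
# The closed fibre `Z = X ×_A A/m` : `i^*(G / mG) ≅ i^*G` and cohomology.
-/

set_option autoImplicit false
set_option linter.style.haveILetI false
universe u
open CategoryTheory CategoryTheory.Limits AlgebraicGeometry TopologicalSpace Opposite

namespace Groth.Agent.H5.RelC

open Groth.Agent.LD Groth.Agent.LD.QC Groth.Agent.LD.CL

attribute [local instance] CategoryTheory.Abelian.hasFiniteBiproducts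

section P

variable {A : Type u} [CommRing A] (m : Ideal A)
variable {X Z : Scheme.{u}} [X.Over (Spec (CommRingCat.of A))]
  (f' : Z ⟶ Spec (CommRingCat.of (A ⧸ m))) (i : Z ⟶ X)
  (h : IsPullback i f' (X ↘ Spec (CommRingCat.of A))
    (Spec.map (CommRingCat.ofHom (algebraMap A (A ⧸ m)))))

include h in
/-- elements of `m` act by zero on inverse images to the closed fibre. -/
theorem pullback_map_smulMod_eq_zero (M : X.Modules) (a : A) (ha : a ∈ m) :
    (Scheme.Modules.pullback i).map (Formal.smulMod A M a) = 0 := by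
  unfold Formal.smulMod
  rw [PS.pullback_map_smulModΓ]
  have h1 : i.appTop.hom (Coh.toGlobal (X ↘ Spec (CommRingCat.of A)) a) = 0 := by
    have h2 := FBC.toGlobal_compat (X ↘ Spec (CommRingCat.of A)) f' i h a
    have h4 : algebraMap A (A ⧸ m) a = 0 := Ideal.Quotient.eq_zero_iff_mem.mpr ha
    rw [h4, map_zero] at h2
    exact h2
  rw [h1]
  exact KLin.smulModΓ_zero _

include h in
theorem pullback_map_smulSum_eq_zero {ι : Type u} [Fintype ι] (a : ι → A) (ha : ∀ j, a j ∈ m)
    (G : X.Modules) : (Scheme.Modules.pullback i).map (smulSum A a G) = 0 := by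
  classical
  have h1 : smulSum A a G = ∑ j, biproduct.π (fun _ : ι => G) j ≫ Formal.smulMod A G (a j) := by
    apply biproduct.hom_ext'
    intro i
    rw [smulSum, biproduct.ι_desc, Preadditive.comp_sum]
    rw [Finset.sum_eq_single i]
    · rw [biproduct.ι_π_self_assoc]
    · intro j _ hji
      rw [biproduct.ι_π_ne_assoc _ hji.symm, zero_comp]
    · intro hi
      exact absurd (Finset.mem_univ i) hi
  haveI : (Scheme.Modules.pullback i).Additive := inferInstance
  rw [h1, Functor.map_sum]
  refine Finset.sum_eq_zero (fun j _ => ?_)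
  rw [Functor.map_comp, pullback_map_smulMod_eq_zero m f' i h G (a j) (ha j), comp_zero]

include h in
/-- `i^*G ⟶ i^*(G / mG)` is an isomorphism. -/
theorem isIso_pullback_map_cokernelπ {ι : Type u} [Fintype ι] (a : ι → A) (ha : ∀ j, a j ∈ m)
    (G : X.Modules) :
    IsIso ((Scheme.Modules.pullback i).map (cokernel.π (smulSum A a G))) := by
  have hz := pullback_map_smulSum_eq_zero m f' i h a ha G
  haveI : Epi ((Scheme.Modules.pullback i).map (cokernel.π (smulSum A a G))) := inferInstance
  let r : (Scheme.Modules.pullback i).obj (cokernel (smulSum A a G)) ⟶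
      (Scheme.Modules.pullback i).obj G :=
    (PreservesCokernel.iso (Scheme.Modules.pullback i) (smulSum A a G)).hom ≫
      cokernel.desc _ (𝟙 _) (by rw [hz, zero_comp])
  have hr : (Scheme.Modules.pullback i).map (cokernel.π (smulSum A a G)) ≫ r = 𝟙 _ := by
    rw [PreservesCokernel.π_iso_hom_assoc, cokernel.π_desc]
  haveI : IsSplitMono ((Scheme.Modules.pullback i).map (cokernel.π (smulSum A a G))) :=
    IsSplitMono.mk' ⟨r, hr⟩
  exact isIso_of_epi_of_isSplitMono _

include h in
/-- `H^p(X, G / mG) = 0` iff `H^p(Z, i^*G) = 0`. -/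
theorem subsingleton_HH_cokernel_iff {ι : Type u} [Fintype ι] (a : ι → A)
    (hspan : Ideal.span (Set.range a) = m) (G : X.Modules)
    (hqc : (cokernel (smulSum A a G)).IsQuasicoherent) (p : ℕ) :
    Subsingleton (Coh.HH X (cokernel (smulSum A a G)) p) ↔
      Subsingleton (Coh.HH Z ((Scheme.Modules.pullback i).obj G) p) := by
  haveI := isClosedImmersion_of_isPullback m f' i h
  have ha : ∀ j, a j ∈ m := fun j => hspan ▸ Ideal.subset_span ⟨j, rfl⟩
  have hk : Formal.KilledBy m (cokernel (smulSum A a G)) := by
    rw [← hspan]; exact killedBy_cokernel_smulSum A X a G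
  haveI := isIso_unit_of_killedBy m f' i h (cokernel (smulSum A a G)) hk
  haveI := isIso_pullback_map_cokernelπ m f' i h a ha G
  let e1 := asIso ((Scheme.Modules.pullbackPushforwardAdjunction i).unit.app
    (cokernel (smulSum A a G)))
  let e2 := asIso ((Scheme.Modules.pullback i).map (cokernel.π (smulSum A a G)))
  constructor
  · intro hs
    have h2 : Subsingleton (Coh.HH X ((Scheme.Modules.pushforward i).obj
        ((Scheme.Modules.pullback i).obj (cokernel (smulSum A a G)))) p) :=
      Groth.Agent.H5.GG.subsingleton_HH_of_iso e1.symm p hs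
    have h3 := (CL.subsingleton_HH_push_iff i _ p).1 h2
    exact Groth.Agent.H5.GG.subsingleton_HH_of_iso e2 p h3
  · intro hs
    have h3 : Subsingleton (Coh.HH Z ((Scheme.Modules.pullback i).obj
        (cokernel (smulSum A a G))) p) :=
      Groth.Agent.H5.GG.subsingleton_HH_of_iso e2.symm p hs
    have h2 := (CL.subsingleton_HH_push_iff i _ p).2 h3
    exact Groth.Agent.H5.GG.subsingleton_HH_of_iso e1 p h2

include h in
/-- global sections of `i^*G` lift to `G` when `Γ(X, G) → Γ(X, G / mG)` is surjective. -/
theorem surjective_unitSec_top {ι : Type u} [Fintype ι] (a : ι → A)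
    (hspan : Ideal.span (Set.range a) = m) (G : X.Modules)
    (hqc : (cokernel (smulSum A a G)).IsQuasicoherent)
    (hsurj : Function.Surjective ((cokernel.π (smulSum A a G)).app ⊤)) :
    Function.Surjective (unitSec i G ⊤) := by
  haveI := isClosedImmersion_of_isPullback m f' i h
  have ha : ∀ j, a j ∈ m := fun j => hspan ▸ Ideal.subset_span ⟨j, rfl⟩
  have hk : Formal.KilledBy m (cokernel (smulSum A a G)) := by
    rw [← hspan]; exact killedBy_cokernel_smulSum A X a G
  haveI hu := isIso_unit_of_killedBy m f' i h (cokernel (smulSum A a G)) hk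
  haveI hp := isIso_pullback_map_cokernelπ m f' i h a ha G
  have hnat := (Scheme.Modules.pullbackPushforwardAdjunction i).unit.naturality
    (cokernel.π (smulSum A a G))
  have hub : Function.Bijective (((Scheme.Modules.pullbackPushforwardAdjunction i).unit.app
      (cokernel (smulSum A a G))).app ⊤) := by
    haveI : IsIso (((Scheme.Modules.pullbackPushforwardAdjunction i).unit.app
      (cokernel (smulSum A a G))).app ⊤) := inferInstance
    exact ConcreteCategory.bijective_of_isIso _
  have hpb : Function.Bijective (((Scheme.Modules.pullback i).map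
      (cokernel.π (smulSum A a G))).app (i ⁻¹ᵁ ⊤)) := by
    haveI : IsIso (((Scheme.Modules.pullback i).map
      (cokernel.π (smulSum A a G))).app (i ⁻¹ᵁ ⊤)) := inferInstance
    exact ConcreteCategory.bijective_of_isIso _
  intro τ
  obtain ⟨c, hc⟩ := hub.2 (((Scheme.Modules.pullback i).map
      (cokernel.π (smulSum A a G))).app (i ⁻¹ᵁ ⊤) τ)
  obtain ⟨s, hs⟩ := hsurj c
  refine ⟨s, hpb.1 ?_⟩
  rw [← hc, ← hs]
  have := congrArg (fun φ => φ.app ⊤ s) hnat
  exact this.symm

end P

end Groth.Agent.H5.RelC
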