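import Mathlib
import Groth.Agent.Lib.Helper5.RelC.D
import Groth.Agent.Lib.Lead.CohLES.H0

/-!
# Relative curves with `H¹(O) = 0`: reduction to the closed fibres (cohomological part).
-/

set_option autoImplicit false
set_option linter.style.haveILetI false
universe u
open CategoryTheory CategoryTheory.Limits AlgebraicGeometry TopologicalSpace Opposite

namespace Groth.Agent.H5.RelC

open Groth.Agent.LD Groth.Agent.LD.QC Groth.Agent.LD.CL

attribute [local instance] CategoryTheory.Abelian.hasFiniteBiproducts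

section bip

variable {X : Scheme.{u}}

/-- cohomology of a finite biproduct vanishes when it does on each summand. -/
theorem subsingleton_HH_biproduct (A : Type u) [CommRing A] [X.Over (Spec (CommRingCat.of A))]
    {ι : Type u} [Fintype ι] (F : ι → X.Modules) (p : ℕ)
    (hF : ∀ j, Subsingleton (Coh.HH X (F j) p)) : Subsingleton (Coh.HH X (⨁ F) p) := by
  classical
  refine ⟨fun x y => ?_⟩
  have key : ∀ z : Coh.HH X (⨁ F) p, z = 0 := by
    intro z
    have h1 : HHmap A (𝟙 (⨁ F)) p z = z := by rw [HHmap_id]; rfl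
    have ht : ∑ j, biproduct.π F j ≫ biproduct.ι F j = 𝟙 (⨁ F) :=
      IsBilimit.total (biproduct.isBilimit F)
    rw [← ht, HHmap_sum, LinearMap.sum_apply] at h1
    rw [← h1]
    refine Finset.sum_eq_zero (fun j _ => ?_)
    rw [HHmap_comp, LinearMap.comp_apply]
    haveI := hF j
    rw [Subsingleton.elim (HHmap A (biproduct.π F j) p z) 0, map_zero]
  rw [key x, key y]

end bip

section main

variable (A : Type u) [CommRing A] [IsNoetherianRing A] (X : Scheme.{u})
  [X.Over (Spec (CommRingCat.of A))] [IsProper (X ↘ Spec (CommRingCat.of A))]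
  (hfib : ∀ y : ↥(Spec (CommRingCat.of A)),
      topologicalKrullDim ↥((X ↘ Spec (CommRingCat.of A)).fiber y) ≤ 1)

include hfib in
/-- `H¹` is right exact. -/
theorem surjective_HHmap_one_of_epi {G T : X.Modules} (hG : Coh.IsCoh G) (hT : Coh.IsCoh T)
    (u : G ⟶ T) [Epi u] : Function.Surjective (HHmap A u 1) := by
  haveI := isLocallyNoetherian A X
  have hI : Coh.IsCoh (kernel u) := isCoh_kernel u hG hT
  let S₂ : ShortComplex X.Modules := ShortComplex.mk (kernel.ι u) u (kernel.condition u)
  have hS₂ : S₂.ShortExact :=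
    { exact := ShortComplex.exact_of_f_is_kernel _ (kernelIsKernel u)
      mono_f := inferInstanceAs (Mono (kernel.ι u))
      epi_g := inferInstanceAs (Epi u) }
  haveI := subsingleton_HH_of_two_le A X hfib _ hI 2 le_rfl
  intro x₃
  exact exact₃ hS₂ A 1 x₃ (Subsingleton.elim _ _)

include hfib in
/-- if `H¹(G / (a)G) = 0` then `H¹(G) = (a) H¹(G)`. -/
theorem top_le_smul_of_subsingleton {ι : Type u} [Fintype ι] (a : ι → A) (G : X.Modules)
    (hG : Coh.IsCoh G) (hs : Subsingleton (Coh.HH X (cokernel (smulSum A a G)) 1)) :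
    (⊤ : Submodule A (Coh.HH X G 1)) ≤
      Ideal.span (Set.range a) • (⊤ : Submodule A (Coh.HH X G 1)) := by
  haveI := isLocallyNoetherian A X
  have hB := FPExt.qc_ft_biproduct (fun _ : ι => G) (fun _ => hG.1) (fun _ => hG.2)
  have hE : Coh.IsCoh (⨁ fun _ : ι => G) := ⟨hB.1, hB.2⟩
  have hT : Coh.IsCoh (cokernel (smulSum A a G)) := isCoh_cokernel _ hE hG
  have hre := rightExact_HH A 1
    (fun K hK => subsingleton_HH_of_two_le A X hfib K hK 2 le_rfl) hE hG hT (smulSum A a G)
    (cokernel.π (smulSum A a G))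
    (cokernel.condition _) (inferInstanceAs (Epi (Abelian.factorThruImage (smulSum A a G))))
  intro ξ _
  obtain ⟨ζ, hζ⟩ := hre.2 ξ (Subsingleton.elim _ _)
  rw [← hζ]
  exact HHmap_smulSum_mem A a G 1 ζ

include hfib in
/-- `H¹(G) = 0` implies `H¹(G / (a) G) = 0`. -/
theorem subsingleton_HH_one_cokernel {ι : Type u} [Fintype ι] (a : ι → A) (G : X.Modules)
    (hG : Coh.IsCoh G) (hs : Subsingleton (Coh.HH X G 1)) :
    Subsingleton (Coh.HH X (cokernel (smulSum A a G)) 1) := by
  haveI := isLocallyNoetherian A X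
  have hB := FPExt.qc_ft_biproduct (fun _ : ι => G) (fun _ => hG.1) (fun _ => hG.2)
  have hE : Coh.IsCoh (⨁ fun _ : ι => G) := ⟨hB.1, hB.2⟩
  have hT : Coh.IsCoh (cokernel (smulSum A a G)) := isCoh_cokernel _ hE hG
  exact (surjective_HHmap_one_of_epi A X hfib hG hT (cokernel.π (smulSum A a G))).subsingleton

include hfib in
/-- `H¹(G) = 0` implies `Γ(X, G) → Γ(X, G / (a) G)` is surjective. -/
theorem surjective_app_top_cokernelπ {ι : Type u} [Fintype ι] (a : ι → A) (G : X.Modules)
    (hG : Coh.IsCoh G) (hs : Subsingleton (Coh.HH X G 1)) :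
    Function.Surjective ((cokernel.π (smulSum A a G)).app ⊤) := by
  haveI := isLocallyNoetherian A X
  have hB := FPExt.qc_ft_biproduct (fun _ : ι => G) (fun _ => hG.1) (fun _ => hG.2)
  have hE : Coh.IsCoh (⨁ fun _ : ι => G) := ⟨hB.1, hB.2⟩
  have hT : Coh.IsCoh (cokernel (smulSum A a G)) := isCoh_cokernel _ hE hG
  set π := cokernel.π (smulSum A a G) with hπ
  have hI : Coh.IsCoh (kernel π) := isCoh_kernel π hG hT
  let S : ShortComplex X.Modules := ShortComplex.mk (kernel.ι π) π (kernel.condition π)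
  have hS : S.ShortExact :=
    { exact := ShortComplex.exact_of_f_is_kernel _ (kernelIsKernel π)
      mono_f := inferInstanceAs (Mono (kernel.ι π))
      epi_g := inferInstanceAs (Epi π) }
  haveI : Epi (kernel.lift π (smulSum A a G) (cokernel.condition _)) :=
    inferInstanceAs (Epi (Abelian.factorThruImage (smulSum A a G)))
  haveI : Subsingleton (Coh.HH X (⨁ fun _ : ι => G) 1) :=
    subsingleton_HH_biproduct A _ 1 (fun _ => hs)
  haveI : Subsingleton (Coh.HH X (kernel π) 1) :=
    (surjective_HHmap_one_of_epi A X hfib hE hI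
      (kernel.lift π (smulSum A a G) (cokernel.condition _))).subsingleton
  exact surjective_app_top_of_injective hS (fun x y _ => Subsingleton.elim _ _)

end main

end Groth.Agent.H5.RelC
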