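import Mathlib
import Groth.Agent.Lib.Helper5.RelC.E
import Groth.Agent.Lib.Lead.QC.PullInv

/-!
# The closed fibre `Z = X ×_A A/m` for a maximal ideal `m`: dimension and `H¹(O_Z)`.
-/

set_option autoImplicit false
set_option linter.style.haveILetI false
universe u
open CategoryTheory CategoryTheory.Limits AlgebraicGeometry TopologicalSpace Opposite

namespace Groth.Agent.H5.RelC

open Groth.Agent.LD Groth.Agent.LD.QC Groth.Agent.LD.CL

attribute [local instance] CategoryTheory.Abelian.hasFiniteBiproducts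

section fib

variable {A : Type u} [CommRing A] (m : Ideal A) [hm : m.IsMaximal]
variable {X Z : Scheme.{u}} [X.Over (Spec (CommRingCat.of A))]
  (f' : Z ⟶ Spec (CommRingCat.of (A ⧸ m))) (i : Z ⟶ X)
  (h : IsPullback i f' (X ↘ Spec (CommRingCat.of A))
    (Spec.map (CommRingCat.ofHom (algebraMap A (A ⧸ m)))))

include h in
/-- the closed fibre lies over the closed point `m`. -/
theorem base_eq_of_isPullback (z : Z) :
    (X ↘ Spec (CommRingCat.of A)).base (i.base z) = ⟨m, hm.isPrime⟩ := by
  have h1 : (X ↘ Spec (CommRingCat.of A)).base (i.base z) =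
      (Spec.map (CommRingCat.ofHom (algebraMap A (A ⧸ m)))).base (f'.base z) := by
    have := congrArg (fun φ : Z ⟶ Spec (CommRingCat.of A) => φ.base z) h.w
    simpa using this
  rw [h1]
  apply PrimeSpectrum.ext
  refine (hm.eq_of_le (PrimeSpectrum.isPrime _).ne_top ?_).symm
  intro a ha
  change algebraMap A (A ⧸ m) a ∈ (f'.base z).asIdeal
  rw [show algebraMap A (A ⧸ m) a = 0 from Ideal.Quotient.eq_zero_iff_mem.mpr ha]
  exact zero_mem _

include h in
/-- the dimension of the closed fibre is bounded by the dimension of the fibre. -/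
theorem dim_le_of_isPullback (d : ℕ)
    (hfib : ∀ y : ↥(Spec (CommRingCat.of A)),
      topologicalKrullDim ↥((X ↘ Spec (CommRingCat.of A)).fiber y) ≤ d) :
    topologicalKrullDim Z ≤ d := by
  haveI := isClosedImmersion_of_isPullback m f' i h
  let y : ↥(Spec (CommRingCat.of A)) := ⟨m, hm.isPrime⟩
  let φ : Z → ↥((X ↘ Spec (CommRingCat.of A)).base ⁻¹' {y}) :=
    fun z => ⟨i.base z, base_eq_of_isPullback m f' i h z⟩
  have hφc : Continuous φ := Continuous.subtype_mk i.base.hom.continuous _
  have hcomp : Topology.IsInducing (Subtype.val ∘ φ) := i.isEmbedding.isInducing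
  have hφ : Topology.IsInducing φ :=
    Topology.IsInducing.of_comp hφc continuous_subtype_val hcomp
  have h2 : Topology.IsInducing (((X ↘ Spec (CommRingCat.of A)).fiberHomeo y).symm ∘ φ) :=
    ((X ↘ Spec (CommRingCat.of A)).fiberHomeo y).symm.isInducing.comp hφ
  exact h2.topologicalKrullDim_le.trans (hfib y)

end fib

section H1

variable (A : Type u) [CommRing A] [IsNoetherianRing A] (X : Scheme.{u})
  [X.Over (Spec (CommRingCat.of A))] [IsProper (X ↘ Spec (CommRingCat.of A))]
  (hfib : ∀ y : ↥(Spec (CommRingCat.of A)),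
      topologicalKrullDim ↥((X ↘ Spec (CommRingCat.of A)).fiber y) ≤ 1)
  (m : Ideal A) {Z : Scheme.{u}}
  (f' : Z ⟶ Spec (CommRingCat.of (A ⧸ m))) (i : Z ⟶ X)
  (h : IsPullback i f' (X ↘ Spec (CommRingCat.of A))
    (Spec.map (CommRingCat.ofHom (algebraMap A (A ⧸ m)))))

include hfib h in
/-- `H¹(X, G) = 0` implies `H¹(Z, i^*G) = 0`. -/
theorem subsingleton_HH_one_pullback (G : X.Modules) (hG : Coh.IsCoh G)
    (hs : Subsingleton (Coh.HH X G 1)) :
    Subsingleton (Coh.HH Z ((Scheme.Modules.pullback i).obj G) 1) := by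
  haveI := isLocallyNoetherian A X
  obtain ⟨s, hs'⟩ := (isNoetherianRing_iff_ideal_fg A).mp inferInstance m
  let a : {x // x ∈ s} → A := Subtype.val
  have hspan : Ideal.span (Set.range a) = m := by
    rw [← hs']
    congr 1
    ext x
    simp [a]
  have hB := FPExt.qc_ft_biproduct (fun _ : {x // x ∈ s} => G) (fun _ => hG.1) (fun _ => hG.2)
  have hE : Coh.IsCoh (⨁ fun _ : {x // x ∈ s} => G) := ⟨hB.1, hB.2⟩
  have hT : Coh.IsCoh (cokernel (smulSum A a G)) := isCoh_cokernel _ hE hG
  exact (subsingleton_HH_cokernel_iff m f' i h a hspan G hT.1 1).1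
    (subsingleton_HH_one_cokernel A X hfib a G hG hs)

include hfib h in
/-- `H¹(O_X) = 0` implies `H¹(O_Z) = 0`. -/
theorem subsingleton_HH_one_unit_fibre
    (hs : Subsingleton (Coh.HH X (Coh.structureModule X) 1)) :
    Subsingleton (Coh.HH Z (Coh.structureModule Z) 1) := by
  have h1 := subsingleton_HH_one_pullback A X hfib m f' i h (unitMod X) (PF.isCoh_unitMod X) hs
  exact Groth.Agent.H5.GG.subsingleton_HH_of_iso (pbUnitIso i).symm 1 h1

include hfib h in
/-- if `H¹(Z, i^*G) = 0` then `H¹(X, G) = m H¹(X, G)`. -/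
theorem top_le_smul_of_subsingleton_fibre (G : X.Modules) (hG : Coh.IsCoh G)
    (hs : Subsingleton (Coh.HH Z ((Scheme.Modules.pullback i).obj G) 1)) :
    (⊤ : Submodule A (Coh.HH X G 1)) ≤ m • (⊤ : Submodule A (Coh.HH X G 1)) := by
  haveI := isLocallyNoetherian A X
  obtain ⟨s, hs'⟩ := (isNoetherianRing_iff_ideal_fg A).mp inferInstance m
  let a : {x // x ∈ s} → A := Subtype.val
  have hspan : Ideal.span (Set.range a) = m := by
    rw [← hs']
    congr 1
    ext x
    simp [a]
  have hB := FPExt.qc_ft_biproduct (fun _ : {x // x ∈ s} => G) (fun _ => hG.1) (fun _ => hG.2)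
  have hE : Coh.IsCoh (⨁ fun _ : {x // x ∈ s} => G) := ⟨hB.1, hB.2⟩
  have hT : Coh.IsCoh (cokernel (smulSum A a G)) := isCoh_cokernel _ hE hG
  have h2 := (subsingleton_HH_cokernel_iff m f' i h a hspan G hT.1 1).2 hs
  have h3 := top_le_smul_of_subsingleton A X hfib a G hG h2
  rwa [hspan] at h3

include hfib h in
/-- if `H¹(X, G) = 0` then global sections of `i^*G` lift to `G`. -/
theorem surjective_unitSec_top_of_H1 (G : X.Modules) (hG : Coh.IsCoh G)
    (hs : Subsingleton (Coh.HH X G 1)) : Function.Surjective (unitSec i G ⊤) := by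
  haveI := isLocallyNoetherian A X
  obtain ⟨s, hs'⟩ := (isNoetherianRing_iff_ideal_fg A).mp inferInstance m
  let a : {x // x ∈ s} → A := Subtype.val
  have hspan : Ideal.span (Set.range a) = m := by
    rw [← hs']
    congr 1
    ext x
    simp [a]
  have hB := FPExt.qc_ft_biproduct (fun _ : {x // x ∈ s} => G) (fun _ => hG.1) (fun _ => hG.2)
  have hE : Coh.IsCoh (⨁ fun _ : {x // x ∈ s} => G) := ⟨hB.1, hB.2⟩
  have hT : Coh.IsCoh (cokernel (smulSum A a G)) := isCoh_cokernel _ hE hG
  exact surjective_unitSec_top m f' i h a hspan G hT.1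
    (surjective_app_top_cokernelπ A X hfib a G hG hs)

end H1

end Groth.Agent.H5.RelC
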