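import Mathlib
import Groth.Agent.Lib.Helper5.SD.NefGen
import Groth.Agent.Lib.Helper5.Curve6.P1Conv
import Groth.Agent.Lib.Lead.QC.PullInv

/-!
# Transfer of the nef hypothesis to a closed fibre, and the consequences over the residue field.
-/

set_option autoImplicit false
set_option linter.style.haveILetI false
universe u
open CategoryTheory CategoryTheory.Limits AlgebraicGeometry TopologicalSpace Opposite

namespace Groth.Agent.H5.RelC

open Groth.Agent.LD Groth.Agent.LD.QC Groth.Agent.LD.CL Groth.Agent.H5.DegC

section nef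

variable (κ : Type u) [Field κ] (Z : Scheme.{u}) [Z.Over (Spec (CommRingCat.of κ))]
  [IsProper (Z ↘ Spec (CommRingCat.of κ))]

/-- **transfer of nefness** along a closed immersion `i : Z ⟶ X` of a proper `κ`-scheme into a
scheme `X` over `S`. -/
theorem nef_transfer {X S : Scheme.{u}} (i : Z ⟶ X) [IsClosedImmersion i] (f : X ⟶ S)
    (g : Spec (CommRingCat.of κ) ⟶ S)
    (hw : i ≫ f = (Z ↘ Spec (CommRingCat.of κ)) ≫ g)
    (L : X.Modules) (hL : PicF.IsInvertible L)
    (hnefX : ∀ (J : X.IdealSheafData) (t : J.subscheme ⟶ Spec (CommRingCat.of κ)),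
      IsIntegral J.subscheme → topologicalKrullDim ↥J.subscheme = 1 →
      t ≫ g = J.subschemeι ≫ f →
      0 ≤ @Curv2.deg κ _ J.subscheme ⟨t⟩ ((Scheme.Modules.pullback J.subschemeι).obj L) 1)
    (C : Z.IdealSheafData) (hC : IsIntegral C.subscheme)
    (hd : topologicalKrullDim (C.support : Set Z) = 1) :
    0 ≤ Curv2.euler κ Z (CohB1.tensorMod (ClSub.quotMod C) ((Scheme.Modules.pullback i).obj L)) -
      Curv2.euler κ Z (ClSub.quotMod C) := by
  have hL' : PicF.IsInvertible ((Scheme.Modules.pullback i).obj L) := isInvertible_pullback i hL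
  have hL1 : FlatMod.IsFinLocFreeOfRank 1 ((Scheme.Modules.pullback i).obj L) :=
    (isInvertible_iff _).mp hL'
  have h2 := deg_restrict_eq κ C 1 ((Scheme.Modules.pullback i).obj L)
    (Curve.isFinLocFree_of_rank hL1)
  have key : 0 ≤ @Curv2.deg κ _ C.subscheme (overOf κ C.subschemeι)
      ((Scheme.Modules.pullback C.subschemeι).obj ((Scheme.Modules.pullback i).obj L)) 1 := by
    letI : C.subscheme.Over (Spec (CommRingCat.of κ)) := overOf κ C.subschemeι
    haveI : IsProper (C.subscheme ↘ Spec (CommRingCat.of κ)) :=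
      inferInstanceAs (IsProper (C.subschemeι ≫ (Z ↘ Spec (CommRingCat.of κ))))
    set j : C.subscheme ⟶ X := C.subschemeι ≫ i with hj
    let J : X.IdealSheafData := j.ker
    let e : C.subscheme ≅ J.subscheme := asIso j.toImage
    have he : e.hom ≫ J.subschemeι = j := j.toImage_imageι
    let t : J.subscheme ⟶ Spec (CommRingCat.of κ) :=
      e.inv ≫ C.subschemeι ≫ (Z ↘ Spec (CommRingCat.of κ))
    have het : e.hom ≫ t = C.subscheme ↘ Spec (CommRingCat.of κ) := by
      change e.hom ≫ e.inv ≫ C.subschemeι ≫ (Z ↘ Spec (CommRingCat.of κ)) = _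
      rw [Iso.hom_inv_id_assoc]
      rfl
    have hInt : IsIntegral J.subscheme := by
      haveI := hC
      haveI : Nonempty J.subscheme := ⟨e.hom.base (Classical.arbitrary _)⟩
      exact isIntegral_of_isOpenImmersion e.inv
    have hdim : topologicalKrullDim ↥J.subscheme = 1 := by
      have h3 : topologicalKrullDim ↥J.subscheme = topologicalKrullDim ↥C.subscheme :=
        (IsHomeomorph.topologicalKrullDim_eq _ e.hom.homeomorph.isHomeomorph).symm
      rw [h3, dim_subscheme_eq]
      exact hd
    have hcompat : t ≫ g = J.subschemeι ≫ f := by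
      rw [← cancel_epi e.hom, ← Category.assoc, het, ← Category.assoc, he, hj, Category.assoc, hw]
      rfl
    have hX := hnefX J t hInt hdim hcompat
    letI : J.subscheme.Over (Spec (CommRingCat.of κ)) := ⟨t⟩
    have hdeg := Groth.Agent.H5.Curve6.deg_pullback_of_isIso κ e.hom het
      ((Scheme.Modules.pullback J.subschemeι).obj L) 1
    have hiso : (Scheme.Modules.pullback e.hom).obj ((Scheme.Modules.pullback J.subschemeι).obj L) ≅
        (Scheme.Modules.pullback C.subschemeι).obj ((Scheme.Modules.pullback i).obj L) :=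
      (Scheme.Modules.pullbackComp e.hom J.subschemeι).app L ≪≫
        (Scheme.Modules.pullbackCongr he).app L ≪≫
          ((Scheme.Modules.pullbackComp C.subschemeι i).app L).symm
    rw [← Curve.deg_iso κ C.subscheme hiso 1, hdeg]
    exact hX
  rw [h2] at key
  push_cast at key
  linarith

end nef

end Groth.Agent.H5.RelC
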