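import Mathlib
import Groth.Agent.Lib.Helper5.RelC.F
import Groth.Agent.Lib.Helper5.RelC.G
import Groth.Agent.Lib.Helper5.SD.GG3
import Groth.Agent.Lib.Helper5.GG.H1
import Groth.Agent.Lib.Lead.QC.GlobGen2

/-!
# Relative curves with `H¹(O) = 0`: nef invertible modules are globally generated with `H¹ = 0`.
-/

set_option autoImplicit false
set_option linter.style.haveILetI false
universe u
open CategoryTheory CategoryTheory.Limits AlgebraicGeometry TopologicalSpace Opposite

namespace Groth.Agent.H5.RelC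

open Groth.Agent.LD Groth.Agent.LD.QC Groth.Agent.LD.CL

section main

variable (A : Type u) [CommRing A] [IsNoetherianRing A] (X : Scheme.{u})
  [X.Over (Spec (CommRingCat.of A))] [IsProper (X ↘ Spec (CommRingCat.of A))]
  (h1 : Subsingleton (Coh.HH X (Coh.structureModule X) 1))
  (hfib : ∀ y : ↥(Spec (CommRingCat.of A)),
      topologicalKrullDim ↥((X ↘ Spec (CommRingCat.of A)).fiber y) ≤ 1)
  (L : X.Modules) (hL : PicF.IsInvertible L)
  (hnef : ∀ (K : Type u) [Field K] (i : A →+* K) (J : X.IdealSheafData)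
      (t : J.subscheme ⟶ Spec (CommRingCat.of K)),
      AlgebraicGeometry.IsIntegral J.subscheme → topologicalKrullDim ↥J.subscheme = 1 →
      t ≫ Spec.map (CommRingCat.ofHom i) = J.subschemeι ≫ (X ↘ Spec (CommRingCat.of A)) →
      0 ≤ @Curv2.deg K _ J.subscheme ⟨t⟩ ((Scheme.Modules.pullback J.subschemeι).obj L) 1)

include h1 hfib hL hnef in
/-- on each closed fibre, `i^*L` is globally generated and has no `H¹`. -/
theorem fibre_gg_and_H1 (m : Ideal A) [hm : m.IsMaximal] {Z : Scheme.{u}}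
    (f' : Z ⟶ Spec (CommRingCat.of (A ⧸ m))) (i : Z ⟶ X)
    (h : IsPullback i f' (X ↘ Spec (CommRingCat.of A))
      (Spec.map (CommRingCat.ofHom (algebraMap A (A ⧸ m))))) :
    Curv2.IsGloballyGenerated ((Scheme.Modules.pullback i).obj L) ∧
      Subsingleton (Coh.HH Z ((Scheme.Modules.pullback i).obj L) 1) := by
  letI : Field (A ⧸ m) := Ideal.Quotient.field m
  letI : Z.Over (Spec (CommRingCat.of (A ⧸ m))) := ⟨f'⟩
  haveI : IsProper (Z ↘ Spec (CommRingCat.of (A ⧸ m))) :=
    MorphismProperty.of_isPullback (P := @IsProper) h inferInstance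
  haveI := isClosedImmersion_of_isPullback m f' i h
  have hdimZ : topologicalKrullDim Z ≤ 1 := dim_le_of_isPullback m f' i h 1 hfib
  have h1Z : Subsingleton (Coh.HH Z (Coh.structureModule Z) 1) :=
    subsingleton_HH_one_unit_fibre A X hfib m f' i h h1
  have hL' : PicF.IsInvertible ((Scheme.Modules.pullback i).obj L) := isInvertible_pullback i hL
  haveI : ((Scheme.Modules.pullback i).obj L).IsQuasicoherent := qc_of_isInvertible _ hL'
  have hLc : Coh.IsCoh ((Scheme.Modules.pullback i).obj L) :=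
    Groth.Agent.H5.Curve2.isCoh_of_isInvertible hL'
  haveI : CompactSpace Z := Curve.compactSpace (A ⧸ m) Z
  have hgg : Curv2.IsGloballyGenerated ((Scheme.Modules.pullback i).obj L) := by
    rcases isEmpty_or_nonempty Z with hZ | hZ
    · exact Groth.Agent.H5.SD.isGloballyGenerated_of_closedPoints _
        (fun x _ => (hZ.false x).elim)
    · exact Groth.Agent.H5.SD.isGloballyGenerated_of_nef_of_H1 (A ⧸ m) Z hdimZ h1Z _ hL'
        (fun C hC hd => nef_transfer (A ⧸ m) Z i (X ↘ Spec (CommRingCat.of A))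
          (Spec.map (CommRingCat.ofHom (algebraMap A (A ⧸ m)))) h.w L hL
          (fun J t hI hd' hc => hnef (A ⧸ m) (algebraMap A (A ⧸ m)) J t hI hd' hc) C hC hd)
  exact ⟨hgg, Groth.Agent.H5.GG.subsingleton_H1_of_isGloballyGenerated Z (A ⧸ m) hdimZ h1Z _
    hLc.2 hgg⟩

include h1 hfib hL hnef in
/-- **`H¹(X, L) = 0`.** -/
theorem subsingleton_H1_of_relNef : Subsingleton (Coh.HH X L 1) := by
  haveI := compactSpace A X
  have hLc : Coh.IsCoh L := Groth.Agent.H5.Curve2.isCoh_of_isInvertible hL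
  haveI : Module.Finite A (Coh.HH X L 1) := Groth.Agent.S0002.result A X L hLc 1
  apply subsingleton_of_forall_maximal_le_smul (A := A)
  intro m hm
  haveI := hm
  have h := IsPullback.of_hasPullback (X ↘ Spec (CommRingCat.of A))
    (Spec.map (CommRingCat.ofHom (algebraMap A (A ⧸ m))))
  have hZ := fibre_gg_and_H1 A X h1 hfib L hL hnef m _ _ h
  exact top_le_smul_of_subsingleton_fibre A X hfib m _ _ h L hLc hZ.2

include h1 hfib hL hnef in
/-- **`L` is globally generated.** -/
theorem isGloballyGenerated_of_relNef : Curv2.IsGloballyGenerated L := by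
  haveI := compactSpace A X
  have hLc : Coh.IsCoh L := Groth.Agent.H5.Curve2.isCoh_of_isInvertible hL
  have hH1 := subsingleton_H1_of_relNef A X h1 hfib L hL hnef
  apply Groth.Agent.H5.SD.isGloballyGenerated_of_closedPoints
  intro x hx
  let y : ↥(Spec (CommRingCat.of A)) := (X ↘ Spec (CommRingCat.of A)).base x
  have hy : IsClosed ({y} : Set ↥(Spec (CommRingCat.of A))) := by
    have := (X ↘ Spec (CommRingCat.of A)).isClosedMap _ hx
    rwa [Set.image_singleton] at this
  have hm : y.asIdeal.IsMaximal := (PrimeSpectrum.isClosed_singleton_iff_isMaximal y).mp hy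
  obtain ⟨m, hmy⟩ : ∃ m : Ideal A, m = y.asIdeal := ⟨_, rfl⟩
  haveI : m.IsMaximal := hmy ▸ hm
  have h := IsPullback.of_hasPullback (X ↘ Spec (CommRingCat.of A))
    (Spec.map (CommRingCat.ofHom (algebraMap A (A ⧸ m))))
  obtain ⟨hggZ, -⟩ := fibre_gg_and_H1 A X h1 hfib L hL hnef m _ _ h
  set i := pullback.fst (X ↘ Spec (CommRingCat.of A))
    (Spec.map (CommRingCat.ofHom (algebraMap A (A ⧸ m)))) with hi
  have hxr : x ∈ Set.range i.base := by
    rw [hi, Scheme.Pullback.range_fst]
    show y ∈ Set.range (Spec.map (CommRingCat.ofHom (algebraMap A (A ⧸ m)))).base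
    haveI : IsDomain (A ⧸ m) := Ideal.Quotient.isDomain m
    refine ⟨⟨⊥, Ideal.isPrime_bot⟩, ?_⟩
    apply PrimeSpectrum.ext
    change Ideal.comap (algebraMap A (A ⧸ m)) ⊥ = y.asIdeal
    rw [← hmy, ← RingHom.ker_eq_comap_bot]
    exact Ideal.mk_ker
  obtain ⟨z, rfl⟩ := hxr
  have hL' : PicF.IsInvertible ((Scheme.Modules.pullback i).obj L) := isInvertible_pullback i hL
  obtain ⟨ι, p, hp⟩ := hggZ
  obtain ⟨k, hk⟩ := exists_mem_genLocus_of_epi_free _ hL' p hp z
  have key : ∀ τ : unitMod _ ⟶ (Scheme.Modules.pullback i).obj L,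
      z ∈ CohB1.genLocus _ τ → ∃ σ : unitMod X ⟶ L, i.base z ∈ CohB1.genLocus L σ := by
    intro τ hk
    obtain ⟨s₀, hs₀⟩ := surjective_unitSec_top_of_H1 A X hfib m _ i h L hLc hH1 (sectionOfHom τ)
    refine ⟨homOfSection L s₀, ?_⟩
    have hpb : pbHom i (homOfSection L s₀) = τ := by
      rw [pbHom, sectionOfHom_homOfSection]
      have h5 : pbSec i L (show (⊤ : Scheme.Opens _) ≤ i ⁻¹ᵁ ⊤ from le_rfl) s₀ =
          unitSec i L ⊤ s₀ := FBC.pbSec_le_rfl i L ⊤ s₀
      rw [h5, hs₀, homOfSection_sectionOfHom]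
    have hgl := genLocus_pbHom i hL (homOfSection L s₀)
    rw [hpb] at hgl
    have hz : z ∈ i ⁻¹ᵁ CohB1.genLocus L (homOfSection L s₀) := hgl ▸ hk
    exact hz
  exact key _ hk

end main

end Groth.Agent.H5.RelC
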