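import Mathlib
import Groth.Agent.Lib.Helper5.RelC.E
import Groth.Agent.Lib.Helper5.SD.KoszB
import Groth.Agent.Lib.Helper5.DegC.TensorDeg
import Groth.Agent.Lib.Lead.QC.SigmaFin
import Groth.Agent.Lib.Lead.QC.SubExt

/-!
# Relative Castelnuovo–Mumford: multiplication of sections is surjective.
-/

set_option autoImplicit false
set_option linter.style.haveILetI false
universe u
open CategoryTheory CategoryTheory.Limits AlgebraicGeometry TopologicalSpace Opposite

namespace Groth.Agent.H5.RelC

open Groth.Agent.LD Groth.Agent.LD.QC Groth.Agent.LD.CL Groth.Agent.H5.SD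

attribute [local instance] CategoryTheory.Abelian.hasFiniteBiproducts

section

variable {X : Scheme.{u}}

/-- finite biproducts of copies of a coherent module are coherent. -/
theorem isCoh_biproduct_fin (r : ℕ) (G : X.Modules) (hG : Coh.IsCoh G) :
    Coh.IsCoh (⨁ fun _ : Fin r => G) := by
  haveI := hG.1
  have hq : (⨁ fun _ : Fin r => G).IsQuasicoherent := qc_biproduct_fin X r G
  haveI : (∐ fun _ : Fin r => G).IsQuasicoherent :=
    qc_of_iso (biproduct.isoCoproduct _) hq
  exact ⟨hq, isFiniteType_of_iso (biproduct.isoCoproduct (fun _ : Fin r => G)).symm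
    (isFiniteType_sigma_fin G hG.2 r)⟩

end

section main

variable (A : Type u) [CommRing A] [IsNoetherianRing A] (X : Scheme.{u})
  [X.Over (Spec (CommRingCat.of A))] [IsProper (X ↘ Spec (CommRingCat.of A))]
  (hfib : ∀ y : ↥(Spec (CommRingCat.of A)),
      topologicalKrullDim ↥((X ↘ Spec (CommRingCat.of A)).fiber y) ≤ 1)

include hfib in
/-- **multiplication of sections is surjective**: if the `s_l` generate the invertible module `L`
and `H¹(N) = 0`, then `Γ(N ⊗ L) ⊗ Γ(L) → Γ((N ⊗ L) ⊗ L)` is surjective. -/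
theorem span_tmul_eq_top_rel {L : X.Modules} (hL : PicF.IsInvertible L) {r : ℕ}
    (s : Fin r → (unitMod X ⟶ L)) (hgen : ∀ x : X, ∃ l, x ∈ CohB1.genLocus L (s l))
    (N : X.Modules) (hN : Coh.IsCoh N) (hH1N : Subsingleton (Coh.HH X N 1)) :
    Submodule.span Γ(X, ⊤)
      (Set.range (fun p : Γ(CohB1.tensorMod N L, ⊤) × Γ(L, ⊤) =>
        SecTwist.tmul (CohB1.tensorMod N L) L ⊤ p.1 p.2)) = ⊤ := by
  classical
  haveI := isLocallyNoetherian A X
  haveI : L.IsQuasicoherent := qc_of_isInvertible _ hL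
  have hLc : Coh.IsCoh L := Groth.Agent.H5.Curve2.isCoh_of_isInvertible hL
  haveI : N.IsQuasicoherent := hN.1
  have hM : Coh.IsCoh (CohB1.tensorMod N L) := Groth.Agent.H5.DegC.isCoh_tensorMod' hN hLc
  have hMA : Coh.IsCoh (CohB1.tensorMod (CohB1.tensorMod N L) L) :=
    Groth.Agent.H5.DegC.isCoh_tensorMod' hM hLc
  have hBM : Coh.IsCoh (⨁ fun _ : Fin r => CohB1.tensorMod N L) := isCoh_biproduct_fin r _ hM
  have hBB : Coh.IsCoh (⨁ fun _ : Fin r => ⨁ fun _ : Fin r => N) :=
    isCoh_biproduct_fin r _ (isCoh_biproduct_fin r _ hN)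
  have hK : Coh.IsCoh (kernel (kq N s)) := isCoh_kernel _ hBM hMA
  have hKK : Coh.IsCoh (kernel (kK hL N s)) := isCoh_kernel _ hBB hK
  haveI hepi := epi_kK hL N s hgen
  have hH1BB : Subsingleton (Coh.HH X (⨁ fun _ : Fin r => ⨁ fun _ : Fin r => N) 1) :=
    SD.subsingleton_HH_biproduct X r 1 _
      (fun _ => SD.subsingleton_HH_biproduct X r 1 _ (fun _ => hH1N))
  let S₁ : ShortComplex X.Modules :=
    ShortComplex.mk (kernel.ι (kK hL N s)) (kK hL N s) (kernel.condition _)
  have hS₁ : S₁.ShortExact :=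
    { exact := ShortComplex.exact_of_f_is_kernel _ (kernelIsKernel (kK hL N s))
      mono_f := inferInstanceAs (Mono (kernel.ι (kK hL N s)))
      epi_g := hepi }
  have hH1K : Subsingleton (Coh.HH X (kernel (kq N s)) 1) :=
    CL.subsingleton_right hS₁ 1 hH1BB
      (subsingleton_HH_of_two_le A X hfib (kernel (kK hL N s)) hKK 2 le_rfl)
  haveI hepiq := epi_kq X N s hgen
  let S₂ : ShortComplex X.Modules :=
    ShortComplex.mk (kernel.ι (kq N s)) (kq N s) (kernel.condition _)
  have hS₂ : S₂.ShortExact :=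
    { exact := ShortComplex.exact_of_f_is_kernel _ (kernelIsKernel (kq N s))
      mono_f := inferInstanceAs (Mono (kernel.ι (kq N s)))
      epi_g := hepiq }
  have hsurj : Function.Surjective ((kq N s).app ⊤) :=
    surjective_app_top_of_injective hS₂ (fun x y _ => Subsingleton.elim _ _)
  rw [eq_top_iff]
  intro y _
  obtain ⟨w, hy⟩ := hsurj y
  have hwsum : w = ∑ i, (biproduct.ι (fun _ : Fin r => CohB1.tensorMod N L) i).app ⊤
      ((biproduct.π (fun _ : Fin r => CohB1.tensorMod N L) i).app ⊤ w) := by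
    have htot := biproduct.total (f := fun _ : Fin r => CohB1.tensorMod N L)
    have h1 : (∑ j : Fin r, biproduct.π (fun _ : Fin r => CohB1.tensorMod N L) j ≫
        biproduct.ι (fun _ : Fin r => CohB1.tensorMod N L) j).app ⊤ w = w := by
      rw [htot]; rfl
    rw [sum_app] at h1
    exact h1.symm
  rw [← hy, hwsum, app_fsum]
  apply Submodule.sum_mem
  intro i _
  apply Submodule.subset_span
  refine ⟨((biproduct.π (fun _ : Fin r => CohB1.tensorMod N L) i).app ⊤ w,
    SecTwist.val (s i) ⊤), ?_⟩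
  change _ = (biproduct.ι (fun _ : Fin r => CohB1.tensorMod N L) i ≫ kq N s).app ⊤ _
  rw [kq, biproduct.ι_desc, mulS_app]

end main

end Groth.Agent.H5.RelC
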