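import Mathlib
import Groth.Agent.Lib.Helper5.RelC.H
import Groth.Agent.Lib.Helper5.RelC.I
import Groth.Agent.Lib.Helper5.SD.VAmp1
import Groth.Agent.Lib.Helper5.SD.PowGen
import Groth.Agent.Lib.Helper5.Curve2.E
import Groth.Agent.Lib.Helper5.IntN.Nak8
import Groth.Agent.Lib.Helper5.VAmple.K
import Groth.Agent.Lib.Lead.PN.AmpleDev
import Groth.Agent.Lib.Lead.QC.RestrictOpen
import Groth.Agent.Lib.Lead.QC.CounitGen
import Groth.Agent.Lib.Helper5.GG.TensorPow

/-!
# Relative curves with `H¹(O) = 0`: ample invertible modules are very ample.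
-/

set_option autoImplicit false
set_option linter.style.haveILetI false
universe u
open CategoryTheory CategoryTheory.Limits AlgebraicGeometry TopologicalSpace Opposite

namespace Groth.Agent.H5.RelC

open Groth.Agent.LD Groth.Agent.LD.QC Groth.Agent.LD.CL Groth.Agent.H5.SD Groth.Agent.H5.VAmple

section nef

variable {A : Type u} [CommRing A] {X : Scheme.{u}} (f : X ⟶ Spec (CommRingCat.of A))
  [IsProper f]

/-- ample invertible modules are nef on curves in the fibres. -/
theorem nef_of_isAmple (M : X.Modules) (hM : CohB1.IsAmple M)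
    (K : Type u) [Field K] (i : A →+* K) (J : X.IdealSheafData)
    (t : J.subscheme ⟶ Spec (CommRingCat.of K))
    (hI : AlgebraicGeometry.IsIntegral J.subscheme) (hd : topologicalKrullDim ↥J.subscheme = 1)
    (hc : t ≫ Spec.map (CommRingCat.ofHom i) = J.subschemeι ≫ f) :
    0 ≤ @Curv2.deg K _ J.subscheme ⟨t⟩ ((Scheme.Modules.pullback J.subschemeι).obj M) 1 := by
  letI : J.subscheme.Over (Spec (CommRingCat.of K)) := ⟨t⟩
  haveI : IsProper (t ≫ Spec.map (CommRingCat.ofHom i)) := by rw [hc]; infer_instance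
  haveI : IsProper (J.subscheme ↘ Spec (CommRingCat.of K)) :=
    IsProper.of_comp t (Spec.map (CommRingCat.ofHom i))
  haveI := hI
  exact (Groth.Agent.H5.Curve2.deg_pos_of_isAmple K J.subscheme hd
    (PN.AmD.isAmple_pullback_of_isAffineHom J.subschemeι M hM)).le

end nef

section main

variable (A : Type u) [CommRing A] [IsNoetherianRing A] (X : Scheme.{u})
  (f : X ⟶ Spec (CommRingCat.of A)) [IsProper f]
  (h1 : Subsingleton (Coh.HH X (Coh.structureModule X) 1))
  (hfib : ∀ y : ↥(Spec (CommRingCat.of A)), topologicalKrullDim ↥(f.fiber y) ≤ 1)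

include h1 hfib in
/-- **ample ⇒ very ample** for proper `X` over a Noetherian ring with `H¹(O_X) = 0` and fibres of
dimension `≤ 1`. -/
theorem isRelVeryAmplePn_of_isAmple (L : X.Modules) (hA : CohB1.IsAmple L) :
    RelAmple.IsRelVeryAmplePn f L := by
  classical
  letI : X.Over (Spec (CommRingCat.of A)) := ⟨f⟩
  haveI : IsProper (X ↘ Spec (CommRingCat.of A)) := ‹IsProper f›
  have hL := hA.1
  haveI : CompactSpace X := hA.2.1
  haveI : L.IsQuasicoherent := qc_of_isInvertible _ hL
  have hLc : Coh.IsCoh L := Groth.Agent.H5.Curve2.isCoh_of_isInvertible hL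
  -- vanishing of `H¹(L^N)`
  have hH1 : ∀ N : ℕ, Subsingleton (Coh.HH X (CohB1.tensorPow L N) 1) := by
    intro N
    rcases Nat.eq_zero_or_pos N with rfl | hN
    · exact h1
    · have hAN := Groth.Agent.H5.IntN.isAmple_tensorPow hA N hN
      exact subsingleton_H1_of_relNef A X h1 hfib _ hAN.1
        (fun K _ i J t hI hd hc => nef_of_isAmple f _ hAN K i J t hI hd hc)
  have hgg : Curv2.IsGloballyGenerated L :=
    isGloballyGenerated_of_relNef A X h1 hfib L hL
      (fun K _ i J t hI hd hc => nef_of_isAmple f L hA K i J t hI hd hc)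
  -- finite generation of `Γ(L)`
  have hfin : Module.Finite A (Coh.HH X L 0) := Groth.Agent.S0002.result A X L hLc 0
  obtain ⟨b, σ₀, hσ₀⟩ := hfin.exists_fin
  let s : Fin (b + 1) → ProjUP.Γm L := Fin.cons 0 (fun j => HH0Equiv L (σ₀ j))
  have H1 : ∀ t : ProjUP.Γm L, ∃ c : Fin (b + 1) → Γ(X, ⊤),
      (∀ l, c l ∈ Set.range f.appTop.hom) ∧ t = ∑ l, c l • s l := by
    intro t
    have hx : (HH0Equiv L).symm t ∈ Submodule.span A (Set.range σ₀) := by rw [hσ₀]; trivial
    obtain ⟨c, hc⟩ := (Submodule.mem_span_range_iff_exists_fun A).1 hx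
    refine ⟨Fin.cons 0 (fun j => (show Γ(X, ⊤) from Coh.toGlobal f (c j))), ?_, ?_⟩
    · intro l
      refine Fin.cases ?_ (fun j => ?_) l
      · exact ⟨0, map_zero _⟩
      · exact ⟨(Scheme.ΓSpecIso (CommRingCat.of A)).inv.hom (c j), rfl⟩
    · rw [Fin.sum_univ_succ]
      simp only [Fin.cons_zero, Fin.cons_succ, s]
      rw [zero_smul, zero_add]
      have h1 : t = HH0Equiv L (∑ j, c j • σ₀ j) := by rw [hc, AddEquiv.apply_symm_apply]
      rw [h1, map_sum]
      refine Finset.sum_congr rfl (fun j _ => ?_)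
      exact HH0Equiv_smul L (Coh.toGlobal f (c j)) (σ₀ j)
  have hgen : ∀ x : X, ∃ l, x ∈ CohB1.genLocus L (homOfSection L (s l)) := by
    intro x
    obtain ⟨ι, p, hp⟩ := hgg
    obtain ⟨k, hk⟩ := exists_mem_genLocus_of_epi_free L hL p hp x
    have key : ∀ τ : unitMod X ⟶ L, x ∈ CohB1.genLocus L τ →
        ∃ l, x ∈ CohB1.genLocus L (homOfSection L (s l)) := by
      intro τ hk
      have he : IsBasisOver L (CohB1.genLocus L τ) (SecTwist.val τ (CohB1.genLocus L τ)) :=
        (le_genLocus_iff_isBasisOver L τ _).mp le_rfl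
      apply exists_mem_genLocus_of_span L x hk _ he s
      obtain ⟨c, -, hc⟩ := H1 (sectionOfHom τ)
      have h2 : SecTwist.val τ (CohB1.genLocus L τ) =
          L.presheaf.map (homOfLE (le_top : CohB1.genLocus L τ ≤ ⊤)).op (sectionOfHom τ) := by
        rw [← val_homOfSection, homOfSection_sectionOfHom]
      rw [h2, hc, map_sum]
      refine Submodule.sum_mem _ (fun l _ => ?_)
      rw [smul_res]
      exact Submodule.smul_mem _ _ (Submodule.subset_span ⟨l, rfl⟩)
    exact key _ hk
  have hs : ProjUP.GeneratedBy L s := generatedBy_of_forall_mem_genLocus L s hgen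
  have H2 : ∀ N : ℕ, Submodule.span Γ(X, ⊤)
      (Set.range (fun p : Γ(CohB1.tensorPow L N, ⊤) × Γ(L, ⊤) =>
        SecTwist.tmul (CohB1.tensorPow L N) L ⊤ p.1 p.2)) = ⊤ := by
    intro N
    cases N with
    | zero => exact spanAt_unit L
    | succ N' =>
      exact span_tmul_eq_top_rel A X hfib hL (fun l => homOfSection L (s l)) hgen
        (CohB1.tensorPow L N') (Groth.Agent.H5.GG.isCoh_tensorPow hLc N') (hH1 N')
  have himm := isImmersion_toPn_of_generated f L hA s hs H1 H2
  exact ⟨b, toPn f L hL s hs, himm, toPn_toBase f L hL s hs, nonempty_iso_toPn f L hL s hs⟩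

end main

end Groth.Agent.H5.RelC
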