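import Mathlib
import Groth.Agent.Lib.Helper5.SD.VAmp1
import Groth.Agent.Lib.Helper5.SD.PowGen
import Groth.Agent.Lib.Helper5.VAmple.I
import Groth.Agent.Lib.Helper5.Curve2.E
import Groth.Agent.Lib.Lead.QC.AmpleFinite
import Groth.Agent.Lib.Lead.QC.CounitGen
import Groth.Agent.Lib.Lead.CohLES.H0Lin
import Groth.Agent.Lib.Helper2.JTwA
import Groth.Agent.Lib.Lead.QC.SpanEpi
import Groth.Agent.S0002

/-!
# Normally generated ample invertible modules are very ample (over a Noetherian affine base).
-/

set_option autoImplicit false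
set_option linter.style.haveILetI false
universe u
open CategoryTheory CategoryTheory.Limits AlgebraicGeometry TopologicalSpace Opposite

namespace Groth.Agent.H5.RelC

open Groth.Agent.LD Groth.Agent.LD.QC Groth.Agent.LD.CL Groth.Agent.H5.SD Groth.Agent.H5.VAmple

section sec

variable {X : Scheme.{u}}

lemma homOfSection_add' (M : X.Modules) (t t' : Γ(M, ⊤)) :
    homOfSection M (t + t') = homOfSection M t + homOfSection M t' := by
  apply Groth.Agent.H2.JTw.sectionOfHom_injective
  rw [sectionOfHom_homOfSection]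
  change t + t' = (homOfSection M t).app ⊤ (1 : Γ(X, ⊤)) + (homOfSection M t').app ⊤ (1 : Γ(X, ⊤))
  have h1 : (homOfSection M t).app ⊤ (1 : Γ(X, ⊤)) = t := sectionOfHom_homOfSection M t
  have h2 : (homOfSection M t').app ⊤ (1 : Γ(X, ⊤)) = t' := sectionOfHom_homOfSection M t'
  rw [h1, h2]

lemma homOfSection_neg' (M : X.Modules) (t : Γ(M, ⊤)) :
    homOfSection M (-t) = -homOfSection M t := by
  have h := homOfSection_add' M t (-t)
  rw [add_neg_cancel, homOfSection_zero] at h
  exact (neg_eq_of_add_eq_zero_right h.symm).symm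

lemma genLocus_neg' (M : X.Modules) (a : unitMod X ⟶ M) :
    CohB1.genLocus M (-a) = CohB1.genLocus M a := by
  let φ : M ≅ M :=
    { hom := -𝟙 M
      inv := -𝟙 M
      hom_inv_id := by simp
      inv_hom_id := by simp }
  have h := genLocus_comp_iso a φ
  have h2 : a ≫ φ.hom = -a := by
    change a ≫ (-𝟙 M) = -a
    rw [Preadditive.comp_neg, Category.comp_id]
  rw [h2] at h
  exact h

lemma homOfSection_tmul (M N : X.Modules) (m : Γ(M, ⊤)) (s : Γ(N, ⊤)) :
    homOfSection (CohB1.tensorMod M N) (SecTwist.tmul M N ⊤ m s) =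
      SecTwist.tmulHom (homOfSection M m) (homOfSection N s) := by
  apply Groth.Agent.H2.JTw.sectionOfHom_injective
  rw [sectionOfHom_homOfSection]
  have h := SecTwist.val_tmulHom (homOfSection M m) (homOfSection N s) ⊤
  have h1 : SecTwist.val (homOfSection M m) ⊤ = m := by
    rw [val_homOfSection]; exact res_self M _ m
  have h2 : SecTwist.val (homOfSection N s) ⊤ = s := by
    rw [val_homOfSection]; exact res_self N _ s
  rw [h1, h2] at h
  exact h.symm

/-- if all sections of `L` vanish at `x`, so do all sums of products `m ⊗ s`. -/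
theorem not_mem_genLocus_of_closure {L : X.Modules} (hL : PicF.IsInvertible L) (M : X.Modules)
    (hM : PicF.IsInvertible M) (x : X)
    (hx : ∀ s : Γ(L, ⊤), x ∉ CohB1.genLocus L (homOfSection L s))
    (t : Γ(CohB1.tensorMod M L, ⊤))
    (ht : t ∈ AddSubgroup.closure {t | ∃ (m : M.val.obj (op ⊤)) (s : L.val.obj (op ⊤)),
      t = SecTwist.tmul M L ⊤ m s}) :
    x ∉ CohB1.genLocus (CohB1.tensorMod M L) (homOfSection _ t) := by
  have hML : PicF.IsInvertible (CohB1.tensorMod M L) := isInvertible_tensorMod hM hL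
  have h0 : x ∉ CohB1.genLocus (CohB1.tensorMod M L)
      (homOfSection (CohB1.tensorMod M L) (0 : Γ(CohB1.tensorMod M L, ⊤))) := by
    rw [homOfSection_zero, genLocus_zero _ hML]
    exact fun h => h
  have hadd : ∀ a b : Γ(CohB1.tensorMod M L, ⊤),
      x ∉ CohB1.genLocus (CohB1.tensorMod M L) (homOfSection (CohB1.tensorMod M L) a) →
      x ∉ CohB1.genLocus (CohB1.tensorMod M L) (homOfSection (CohB1.tensorMod M L) b) →
      x ∉ CohB1.genLocus (CohB1.tensorMod M L) (homOfSection (CohB1.tensorMod M L) (a + b)) := by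
    intro a b ha hb h
    rw [homOfSection_add'] at h
    rcases genLocus_add_le _ hML _ _ h with h' | h'
    · exact ha h'
    · exact hb h'
  have hneg : ∀ a : Γ(CohB1.tensorMod M L, ⊤),
      x ∉ CohB1.genLocus (CohB1.tensorMod M L) (homOfSection (CohB1.tensorMod M L) a) →
      x ∉ CohB1.genLocus (CohB1.tensorMod M L) (homOfSection (CohB1.tensorMod M L) (-a)) := by
    intro a ha h
    rw [homOfSection_neg', genLocus_neg'] at h
    exact ha h
  induction ht using AddSubgroup.closure_induction with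
  | mem y hy =>
    obtain ⟨m, s, rfl⟩ := hy
    rw [homOfSection_tmul, genLocus_tmulHom hM hL]
    exact fun h => hx s h.2
  | zero => exact h0
  | add a b _ _ ha hb => exact hadd a b ha hb
  | neg a _ ha => exact hneg a ha

end sec

section main

variable (A : Type u) [CommRing A] [IsNoetherianRing A] {X : Scheme.{u}}
  (f : X ⟶ Spec (CommRingCat.of A)) [IsProper f]

/-- **normally generated ample ⇒ very ample** for proper `X` over a Noetherian ring. -/
theorem isRelVeryAmplePn_of_normallyGenerated (L : X.Modules) (hA : CohB1.IsAmple L)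
    (hng : ∀ n : ℕ, 1 ≤ n → AddSubgroup.closure
      {t | ∃ (m : (CohB1.tensorPow L n).val.obj (op ⊤)) (s : L.val.obj (op ⊤)),
        t = SecTwist.tmul (CohB1.tensorPow L n) L ⊤ m s} = ⊤) :
    RelAmple.IsRelVeryAmplePn f L := by
  classical
  letI : X.Over (Spec (CommRingCat.of A)) := ⟨f⟩
  haveI : IsProper (X ↘ Spec (CommRingCat.of A)) := ‹IsProper f›
  have hL := hA.1
  haveI : CompactSpace X := hA.2.1
  haveI : L.IsQuasicoherent := qc_of_isInvertible _ hL
  have hLc : Coh.IsCoh L := Groth.Agent.H5.Curve2.isCoh_of_isInvertible hL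
  -- every section of `L^(n+1)` is a sum of products
  have hcl : ∀ (n : ℕ) (z : Γ(CohB1.tensorMod (CohB1.tensorPow L n) L, ⊤)),
      z ∈ AddSubgroup.closure
        {t | ∃ (m : (CohB1.tensorPow L n).val.obj (op ⊤)) (s : L.val.obj (op ⊤)),
          t = SecTwist.tmul (CohB1.tensorPow L n) L ⊤ m s} := by
    intro n z
    rcases Nat.eq_zero_or_pos n with rfl | hn
    · apply AddSubgroup.subset_closure
      refine ⟨(1 : Γ(X, ⊤)), (unitorL L).hom.app ⊤ z, ?_⟩
      have hinj : Function.Injective ((unitorL L).hom.app ⊤) :=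
        (app_bijective_of_isIso (unitorL L).hom ⊤).1
      apply hinj
      change _ = (unitorL L).hom.app ⊤ (SecTwist.tmul (unitMod X) L ⊤ (1 : Γ(X, ⊤)) _)
      rw [unitorL_hom_app_tmul, one_smul]
    · rw [hng n hn]; trivial
  -- finite generation of `Γ(L)`
  have hfin : Module.Finite A (Coh.HH X L 0) := Groth.Agent.S0002.result A X L hLc 0
  obtain ⟨b, σ₀, hσ₀⟩ := hfin.exists_fin
  let s : Fin (b + 1) → ProjUP.Γm L := Fin.cons 0 (fun j => HH0Equiv L (σ₀ j))
  have H1 : ∀ t : ProjUP.Γm L, ∃ c : Fin (b + 1) → Γ(X, ⊤),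
      (∀ l, c l ∈ Set.range f.appTop.hom) ∧ t = ∑ l, c l • s l := by
    intro t
    have hx : (HH0Equiv L).symm t ∈ Submodule.span A (Set.range σ₀) := by rw [hσ₀]; trivial
    obtain ⟨c, hc⟩ := (Submodule.mem_span_range_iff_exists_fun A).1 hx
    refine ⟨Fin.cons 0 (fun j => (show Γ(X, ⊤) from Coh.toGlobal f (c j))), ?_, ?_⟩
    · intro l
      refine Fin.cases ?_ (fun j => ?_) l
      · exact ⟨0, map_zero _⟩
      · exact ⟨(Scheme.ΓSpecIso (CommRingCat.of A)).inv.hom (c j), rfl⟩
    · rw [Fin.sum_univ_succ]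
      simp only [Fin.cons_zero, Fin.cons_succ, s]
      rw [zero_smul, zero_add]
      have h1 : t = HH0Equiv L (∑ j, c j • σ₀ j) := by rw [hc, AddEquiv.apply_symm_apply]
      rw [h1, map_sum]
      refine Finset.sum_congr rfl (fun j _ => ?_)
      exact HH0Equiv_smul L (Coh.toGlobal f (c j)) (σ₀ j)
  have hgen : ∀ x : X, ∃ l, x ∈ CohB1.genLocus L (homOfSection L (s l)) := by
    intro x
    -- some section of `L` generates at `x`
    have hex : ∃ σ : Γ(L, ⊤), x ∈ CohB1.genLocus L (homOfSection L σ) := by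
      by_contra hcon
      push_neg at hcon
      obtain ⟨n, t, hxt, -⟩ := hA.2.2 x
      have h1 := not_mem_genLocus_of_closure hL (CohB1.tensorPow L n)
        (isInvertible_tensorPow hL n) x hcon (sectionOfHom t) (hcl n _)
      rw [homOfSection_sectionOfHom] at h1
      exact h1 hxt
    obtain ⟨σ, hσ⟩ := hex
    have key : ∀ τ : unitMod X ⟶ L, x ∈ CohB1.genLocus L τ →
        ∃ l, x ∈ CohB1.genLocus L (homOfSection L (s l)) := by
      intro τ hk
      have he : IsBasisOver L (CohB1.genLocus L τ) (SecTwist.val τ (CohB1.genLocus L τ)) :=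
        (le_genLocus_iff_isBasisOver L τ _).mp le_rfl
      apply exists_mem_genLocus_of_span L x hk _ he s
      obtain ⟨c, -, hc⟩ := H1 (sectionOfHom τ)
      have h2 : SecTwist.val τ (CohB1.genLocus L τ) =
          L.presheaf.map (homOfLE (le_top : CohB1.genLocus L τ ≤ ⊤)).op (sectionOfHom τ) := by
        rw [← val_homOfSection, homOfSection_sectionOfHom]
      rw [h2, hc, map_sum]
      refine Submodule.sum_mem _ (fun l _ => ?_)
      rw [smul_res]
      exact Submodule.smul_mem _ _ (Submodule.subset_span ⟨l, rfl⟩)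
    exact key _ hσ
  have hs : ProjUP.GeneratedBy L s := generatedBy_of_forall_mem_genLocus L s hgen
  have H2 : ∀ N : ℕ, Submodule.span Γ(X, ⊤)
      (Set.range (fun p : Γ(CohB1.tensorPow L N, ⊤) × Γ(L, ⊤) =>
        SecTwist.tmul (CohB1.tensorPow L N) L ⊤ p.1 p.2)) = ⊤ := by
    intro N
    rw [eq_top_iff]
    rintro z -
    have hz := hcl N z
    induction hz using AddSubgroup.closure_induction with
    | mem y hy =>
      obtain ⟨m, s', rfl⟩ := hy
      exact Submodule.subset_span ⟨(m, s'), rfl⟩
    | zero => exact Submodule.zero_mem _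
    | add a b _ _ ha hb => exact Submodule.add_mem _ ha hb
    | neg a _ ha => exact Submodule.neg_mem _ ha
  have himm := isImmersion_toPn_of_generated f L hA s hs H1 H2
  exact ⟨b, toPn f L hL s hs, himm, toPn_toBase f L hL s hs, nonempty_iso_toPn f L hL s hs⟩

end main

end Groth.Agent.H5.RelC
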